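import Groth.Agent.L14.DeRham.Basic
import Mathlib.LinearAlgebra.ExteriorAlgebra.Grading
import Mathlib.RingTheory.TensorProduct.Basic
import Mathlib.LinearAlgebra.TensorProduct.Tower
import Mathlib.RingTheory.Flat.Basic

/-!
Exterior powers commute with extension of scalars.
-/

set_option autoImplicit false
set_option linter.style.haveILetI false

noncomputable section

universe u

open exteriorPower TensorProduct

namespace Groth.L14.DeRham

variable {A B : Type u} [CommRing A] [CommRing B] [Algebra A B]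
  {M M' : Type u} [AddCommGroup M] [Module A M] [AddCommGroup M'] [Module B M'] [Module A M']
  [IsScalarTower A B M']

/-- The generators of the exterior algebra after extension of scalars. -/
def jBC : B ⊗[A] M →ₗ[B] B ⊗[A] ExteriorAlgebra A M := (ExteriorAlgebra.ι A (M := M)).baseChange B

theorem ι_anticomm (m n : M) :
    ExteriorAlgebra.ι A m * ExteriorAlgebra.ι A n + ExteriorAlgebra.ι A n * ExteriorAlgebra.ι A m = 0 := by
  have h := ExteriorAlgebra.ι_sq_zero (R := A) (m + n)
  simpa [map_add, add_mul, mul_add, ExteriorAlgebra.ι_sq_zero] using h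

theorem jBC_anticomm (x y : B ⊗[A] M) : jBC x * jBC y + jBC y * jBC x = 0 := by
  induction x using TensorProduct.induction_on with
  | zero => simp
  | add a b ha hb =>
    rw [map_add, add_mul, mul_add, add_add_add_comm, ha, hb, add_zero]
  | tmul b m =>
    induction y using TensorProduct.induction_on with
    | zero => simp
    | add a c ha hc =>
      rw [map_add, add_mul, mul_add, add_add_add_comm, ha, hc, add_zero]
    | tmul c n =>
      simp only [jBC, LinearMap.baseChange_tmul, Algebra.TensorProduct.tmul_mul_tmul]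
      rw [mul_comm c b, ← tmul_add, ι_anticomm, tmul_zero]

theorem jBC_sq (x : B ⊗[A] M) : jBC x * jBC x = 0 := by
  induction x using TensorProduct.induction_on with
  | zero => simp
  | tmul b m =>
    simp only [jBC, LinearMap.baseChange_tmul, Algebra.TensorProduct.tmul_mul_tmul,
      ExteriorAlgebra.ι_sq_zero, tmul_zero]
  | add a b ha hb =>
    rw [map_add, add_mul, mul_add, mul_add, ha, hb, add_zero, zero_add, jBC_anticomm]

/-- The projection onto a graded piece. -/
def gradedProj (p : ℕ) : ExteriorAlgebra A M →ₗ[A] ↥(⋀[A]^p M) :=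
  (DirectSum.component A ℕ (fun i => ↥(⋀[A]^i M)) p) ∘ₗ
    (DirectSum.decomposeLinearEquiv (fun i : ℕ => ⋀[A]^i M)).toLinearMap

theorem gradedProj_subtype (p : ℕ) : gradedProj (A := A) (M := M) p ∘ₗ (⋀[A]^p M).subtype = LinearMap.id := by
  refine LinearMap.ext fun x => ?_
  show DirectSum.component A ℕ (fun i => ↥(⋀[A]^i M)) p
      (DirectSum.decompose (fun i : ℕ => ⋀[A]^i M) (x : ExteriorAlgebra A M)) = x
  rw [DirectSum.decompose_coe, ← DirectSum.lof_eq_of A, DirectSum.component.lof_self]

theorem baseChange_subtype_injective (p : ℕ) :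
    Function.Injective (((⋀[A]^p M).subtype).baseChange B) := by
  have h : (gradedProj (A := A) (M := M) p).baseChange B ∘ₗ ((⋀[A]^p M).subtype).baseChange B = LinearMap.id := by
    rw [← LinearMap.baseChange_comp, gradedProj_subtype, LinearMap.baseChange_id]
  exact Function.LeftInverse.injective (LinearMap.congr_fun h)

theorem bijective_ext_baseChange (j₀ : M →ₗ[A] M') (h : Function.Bijective (j₀.liftBaseChange B))
    (p : ℕ) (Ψ : B ⊗[A] ↥(⋀[A]^p M) →ₗ[B] ↥(⋀[B]^p M'))
    (hΨ : ∀ v : Fin p → M, Ψ (1 ⊗ₜ ιMulti A p v) = ιMulti B p fun i => j₀ (v i)) :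
    Function.Bijective Ψ := by
  let e : B ⊗[A] M ≃ₗ[B] M' := LinearEquiv.ofBijective (j₀.liftBaseChange B) h
  let f : M' →ₗ[B] B ⊗[A] ExteriorAlgebra A M := jBC ∘ₗ e.symm.toLinearMap
  let G : ExteriorAlgebra B M' →ₐ[B] B ⊗[A] ExteriorAlgebra A M :=
    ExteriorAlgebra.lift B ⟨f, fun m => jBC_sq _⟩
  have hG1 : ∀ m, G (ExteriorAlgebra.ι B (j₀ m)) = 1 ⊗ₜ ExteriorAlgebra.ι A m := by
    intro m
    rw [ExteriorAlgebra.lift_ι_apply]
    show jBC (e.symm (j₀ m)) = _
    rw [show e.symm (j₀ m) = (1 : B) ⊗ₜ m from e.injective (by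
      rw [LinearEquiv.apply_symm_apply]; simp [e])]
    rfl
  have hG : ∀ (q : ℕ) (v : Fin q → M), G (ιMulti B q (fun i => j₀ (v i)) : ExteriorAlgebra B M') =
      1 ⊗ₜ (ιMulti A q v : ExteriorAlgebra A M) := by
    intro q
    induction q with
    | zero =>
      intro v
      rw [ιMulti_apply_coe, ιMulti_apply_coe, ExteriorAlgebra.ιMulti_zero_apply,
        ExteriorAlgebra.ιMulti_zero_apply, map_one, Algebra.TensorProduct.one_def]
    | succ q ih =>
      intro v
      rw [ιMulti_apply_coe, ιMulti_apply_coe, ExteriorAlgebra.ιMulti_succ_apply,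
        ExteriorAlgebra.ιMulti_succ_apply, map_mul, hG1]
      have := ih (Matrix.vecTail v)
      rw [ιMulti_apply_coe, ιMulti_apply_coe] at this
      rw [show (Matrix.vecTail fun i => j₀ (v i)) = fun i => j₀ (Matrix.vecTail v i) from rfl, this,
        Algebra.TensorProduct.tmul_mul_tmul, one_mul]
  have hcomp : G.toLinearMap ∘ₗ (⋀[B]^p M').subtype ∘ₗ Ψ = ((⋀[A]^p M).subtype).baseChange B := by
    refine TensorProduct.AlgebraTensorModule.curry_injective ?_
    refine LinearMap.ext fun b => ?_
    refine exteriorPower.linearMap_ext ?_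
    ext v
    show G (Ψ (b ⊗ₜ ιMulti A p v) : ExteriorAlgebra B M') = b ⊗ₜ (ιMulti A p v : ExteriorAlgebra A M)
    rw [show b ⊗ₜ[A] ιMulti A p v = b • ((1 : B) ⊗ₜ[A] ιMulti A p v) by rw [smul_tmul', smul_eq_mul, mul_one],
      map_smul, hΨ, Submodule.coe_smul, map_smul, hG, smul_tmul', smul_eq_mul, mul_one]
  refine ⟨Function.Injective.of_comp (f := fun z : ↥(⋀[B]^p M') => G (z : ExteriorAlgebra B M')) ?_, ?_⟩
  · intro x y hxy
    refine baseChange_subtype_injective p ?_
    rw [← hcomp]
    exact hxy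
  · rw [← LinearMap.range_eq_top, eq_top_iff]
    have hs : Submodule.span B (Set.range j₀) = ⊤ := by
      rw [← LinearMap.range_eq_top.mpr h.2, ← LinearMap.coe_range]
      exact (LinearMap.range_liftBaseChange B j₀).symm
    rw [← ιMulti_span_of_span B p M' hs, Submodule.span_le]
    rintro _ ⟨w, hw, rfl⟩
    choose v hv using fun i => hw ⟨i, rfl⟩
    exact ⟨1 ⊗ₜ ιMulti A p v, by rw [hΨ]; congr 1; funext i; exact hv i⟩

end Groth.L14.DeRham
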