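import Groth.Prelude.Def_DeRham

/-!
Generators of the de Rham complex, and formal consequences of the rule.
-/

set_option autoImplicit false

noncomputable section

universe v u v' u'

open exteriorPower

namespace Groth.L14.DeRham

section

variable {R : Type v} {A M : Type u} [CommRing R] [CommRing A] [Algebra R A]
  [AddCommGroup M] [Module A M] [Module R M]

theorem smul_gen (δ : Derivation R A M) (p : ℕ) (a b₀ : A) (b : Fin p → A) :
    a • _root_.DeRham.gen δ p b₀ b = _root_.DeRham.gen δ p (a * b₀) b :=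
  (mul_smul _ _ _).symm

theorem gen_induction {δ : Derivation R A M} (hδ : Submodule.span A (Set.range δ) = ⊤) {p : ℕ}
    {motive : ↥(⋀[A]^p M) → Prop}
    (hgen : ∀ b₀ b, motive (_root_.DeRham.gen δ p b₀ b))
    (hzero : motive 0) (hadd : ∀ x y, motive x → motive y → motive (x + y)) (x : ↥(⋀[A]^p M)) :
    motive x := by
  have hx : x ∈ Submodule.span A (ιMulti A p '' {a | Set.range a ⊆ Set.range δ}) := by
    rw [ιMulti_span_of_span A p M hδ]; exact Submodule.mem_top
  suffices h : ∀ c : A, motive (c • x) by simpa using h 1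
  induction hx using Submodule.span_induction with
  | mem y hy =>
    obtain ⟨v, hv, rfl⟩ := hy
    intro c
    choose b hb using fun i => hv ⟨i, rfl⟩
    have h := hgen c b
    have e : (fun i => δ (b i)) = v := funext hb
    rw [_root_.DeRham.gen, e] at h
    exact h
  | zero => intro c; rwa [smul_zero]
  | add y z _ _ hy hz => intro c; rw [smul_add]; exact hadd _ _ (hy c) (hz c)
  | smul a y _ hy => intro c; rw [smul_smul]; exact hy _

theorem addHom_ext {δ : Derivation R A M} (hδ : Submodule.span A (Set.range δ) = ⊤) {p : ℕ}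
    {N : Type*} [AddCommGroup N] {f g : ↥(⋀[A]^p M) →+ N}
    (h : ∀ b₀ b, f (_root_.DeRham.gen δ p b₀ b) = g (_root_.DeRham.gen δ p b₀ b)) : f = g :=
  AddMonoidHom.ext fun x => gen_induction hδ (motive := fun x => f x = g x) h (by simp)
    (fun a b ha hb => by simp [ha, hb]) x

theorem gen_one_cons (δ : Derivation R A M) (p : ℕ) (b₀ : A) (b : Fin p → A) :
    ιMulti A (p + 1) (Fin.cons (δ b₀) fun i => δ (b i)) =
      _root_.DeRham.gen δ (p + 1) 1 (Fin.cons b₀ b) := by
  rw [_root_.DeRham.gen, one_smul]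
  congr 1
  funext i
  refine Fin.cases ?_ (fun j => ?_) i <;> simp

variable [IsScalarTower R A M] {δ : Derivation R A M}
  {d : ∀ p : ℕ, ↥(⋀[A]^p M) →ₗ[R] ↥(⋀[A]^(p + 1) M)}

theorem comp_eq_zero_of_rule (hδ : Submodule.span A (Set.range δ) = ⊤)
    (hd : _root_.DeRham.IsRule δ d) (p : ℕ) : d (p + 1) ∘ₗ d p = 0 := by
  refine LinearMap.toAddMonoidHom_injective (addHom_ext hδ fun b₀ b => ?_)
  simp only [LinearMap.toAddMonoidHom_coe, LinearMap.coe_comp, Function.comp_apply,
    LinearMap.zero_apply]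
  rw [hd p b₀ b, gen_one_cons, hd (p + 1) 1, Derivation.map_one_eq_zero]
  exact (ιMulti A (p + 1 + 1)).map_coord_zero 0 (by simp)

/-- Prepending a vector, as a linear map on exterior powers. -/
def wedgeCons (p : ℕ) (m : M) : ↥(⋀[A]^p M) →ₗ[A] ↥(⋀[A]^(p + 1) M) :=
  alternatingMapLinearEquiv ((ιMulti A (p + 1) (M := M)).curryLeft m)

theorem wedgeCons_ιMulti (p : ℕ) (m : M) (v : Fin p → M) :
    wedgeCons (A := A) p m (ιMulti A p v) = ιMulti A (p + 1) (Fin.cons m v) := by
  rw [wedgeCons, alternatingMapLinearEquiv_apply_ιMulti]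
  rfl

/-- The commutator of the differential with a multiplication. -/
theorem leibniz (hδ : Submodule.span A (Set.range δ) = ⊤) (hd : _root_.DeRham.IsRule δ d)
    (p : ℕ) (a : A) (x : ↥(⋀[A]^p M)) :
    d p (a • x) = a • d p x + wedgeCons p (δ a) x := by
  induction x using gen_induction hδ with
  | hgen b₀ b =>
    rw [smul_gen, hd, hd, _root_.DeRham.gen, map_smul, wedgeCons_ιMulti, Derivation.leibniz]
    have := (ιMulti A (p + 1) (M := M)).map_update_add (Fin.cons 0 fun i => δ (b i)) 0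
      (a • δ b₀) (b₀ • δ a)
    simp only [Fin.update_cons_zero] at this
    rw [this]
    have h1 := (ιMulti A (p + 1) (M := M)).map_update_smul (Fin.cons 0 fun i => δ (b i)) 0 a (δ b₀)
    have h2 := (ιMulti A (p + 1) (M := M)).map_update_smul (Fin.cons 0 fun i => δ (b i)) 0 b₀ (δ a)
    simp only [Fin.update_cons_zero] at h1 h2
    rw [h1, h2]
  | hzero => simp
  | hadd y z hy hz => rw [smul_add, map_add, map_add, map_add, hy, hz, smul_add]; abel

/-- Uniqueness of the differential. -/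
theorem rule_unique {d' : ∀ p : ℕ, ↥(⋀[A]^p M) →ₗ[R] ↥(⋀[A]^(p + 1) M)}
    (hδ : Submodule.span A (Set.range δ) = ⊤) (hd : _root_.DeRham.IsRule δ d)
    (hd' : _root_.DeRham.IsRule δ d') (p : ℕ) : d p = d' p :=
  LinearMap.toAddMonoidHom_injective (addHom_ext hδ fun b₀ b => (hd p b₀ b).trans (hd' p b₀ b).symm)

end

section Map

variable {R : Type v} {A M : Type u} {R' : Type v'} {A' M' : Type u'} [CommRing R] [CommRing A]
  [Algebra R A] [AddCommGroup M] [Module A M] [Module R M] [IsScalarTower R A M]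
  [CommRing R'] [CommRing A'] [Algebra R' A']
  [AddCommGroup M'] [Module A' M'] [Module R' M'] [IsScalarTower R' A' M']

theorem cxMap_comm {δ : Derivation R A M} {δ' : Derivation R' A' M'}
    (hδ : Submodule.span A (Set.range δ) = ⊤) {g : A →+* A'}
    {ψ : ∀ p : ℕ, ↥(⋀[A]^p M) →+ ↥(⋀[A']^p M')} (hψ : _root_.DeRham.IsCxMap δ δ' g ψ)
    {d : ∀ p : ℕ, ↥(⋀[A]^p M) →ₗ[R] ↥(⋀[A]^(p + 1) M)} (hd : _root_.DeRham.IsRule δ d)
    {d' : ∀ p : ℕ, ↥(⋀[A']^p M') →ₗ[R'] ↥(⋀[A']^(p + 1) M')} (hd' : _root_.DeRham.IsRule δ' d')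
    (p : ℕ) (x : ↥(⋀[A]^p M)) : ψ (p + 1) (d p x) = d' p (ψ p x) := by
  induction x using gen_induction hδ with
  | hgen b₀ b =>
    rw [hd, gen_one_cons, hψ, hψ, hd', gen_one_cons, map_one]
    congr 1
    funext i
    refine Fin.cases ?_ (fun j => ?_) i <;> simp
  | hzero => simp
  | hadd y z hy hz => simp only [map_add, hy, hz]

theorem cxMap_smul {δ : Derivation R A M} {δ' : Derivation R' A' M'}
    (hδ : Submodule.span A (Set.range δ) = ⊤) {g : A →+* A'}
    {ψ : ∀ p : ℕ, ↥(⋀[A]^p M) →+ ↥(⋀[A']^p M')} (hψ : _root_.DeRham.IsCxMap δ δ' g ψ)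
    (p : ℕ) (a : A) (x : ↥(⋀[A]^p M)) : ψ p (a • x) = g a • ψ p x := by
  induction x using gen_induction hδ with
  | hgen b₀ b => rw [smul_gen, hψ, hψ, map_mul, smul_gen]
  | hzero => simp
  | hadd y z hy hz => simp only [smul_add, map_add, hy, hz]

end Map

end Groth.L14.DeRham
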