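import Groth.Agent.L14.DeRham.Quot
import Mathlib.LinearAlgebra.CliffordAlgebra.Contraction
import Mathlib.Algebra.BigOperators.Fin

/-!
Contraction of forms and the homotopy formula on eigenforms.
-/

set_option autoImplicit false
set_option linter.style.haveILetI false

noncomputable section

universe v u

open exteriorPower

namespace Groth.L14.DeRham

variable {R : Type v} {A M : Type u} [CommRing R] [CommRing A] [Algebra R A]
  [AddCommGroup M] [Module A M] [Module R M]

theorem gen_induction' {δ : Derivation R A M} {s : Set A} (hs : Submodule.span A (δ '' s) = ⊤) {p : ℕ}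
    {motive : ↥(⋀[A]^p M) → Prop}
    (hgen : ∀ b₀ (b : Fin p → A), (∀ i, b i ∈ s) → motive (_root_.DeRham.gen δ p b₀ b))
    (hzero : motive 0) (hadd : ∀ x y, motive x → motive y → motive (x + y)) (x : ↥(⋀[A]^p M)) :
    motive x := by
  have hx : x ∈ Submodule.span A (ιMulti A p '' {a | Set.range a ⊆ δ '' s}) := by
    rw [ιMulti_span_of_span A p M hs]; exact Submodule.mem_top
  suffices h : ∀ c : A, motive (c • x) by simpa using h 1
  induction hx using Submodule.span_induction with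
  | mem y hy =>
    obtain ⟨v, hv, rfl⟩ := hy
    intro c
    choose b hb using fun i => hv ⟨i, rfl⟩
    have h := hgen c b fun i => (hb i).1
    have e : (fun i => δ (b i)) = v := funext fun i => (hb i).2
    rw [_root_.DeRham.gen, e] at h
    exact h
  | zero => intro c; rwa [smul_zero]
  | add y z _ _ hy hz => intro c; rw [smul_add]; exact hadd _ _ (hy c) (hz c)
  | smul a y _ hy => intro c; rw [smul_smul]; exact hy _

/-- Contraction with a linear form, on exterior algebra. -/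
def ctr (φ : M →ₗ[A] A) : ExteriorAlgebra A M →ₗ[A] ExteriorAlgebra A M :=
  CliffordAlgebra.contractLeft (Q := (0 : QuadraticForm A M)) φ

theorem ctr_ι_mul (φ : M →ₗ[A] A) (m : M) (x : ExteriorAlgebra A M) :
    ctr φ (ExteriorAlgebra.ι A m * x) = φ m • x - ExteriorAlgebra.ι A m * ctr φ x :=
  CliffordAlgebra.contractLeft_ι_mul φ m x

theorem ctr_mem (φ : M →ₗ[A] A) (p : ℕ) (v : Fin (p + 1) → M) :
    ctr φ (ιMulti A (p + 1) v : ExteriorAlgebra A M) ∈ ⋀[A]^p M := by
  induction p with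
  | zero =>
    rw [← Fin.cons_self_tail v, coe_cons, ctr_ι_mul, ιMulti_apply_coe,
      ExteriorAlgebra.ιMulti_zero_apply,
      show ctr φ 1 = 0 from CliffordAlgebra.contractLeft_one _ φ, mul_zero, sub_zero]
    refine Submodule.smul_mem _ _ ?_
    have := (ιMulti A 0 (Fin.elim0 : Fin 0 → M)).2
    rwa [ιMulti_apply_coe, ExteriorAlgebra.ιMulti_zero_apply] at this
  | succ p ih =>
    rw [← Fin.cons_self_tail v, coe_cons, ctr_ι_mul]
    refine sub_mem (Submodule.smul_mem _ _ (Subtype.coe_prop _)) ?_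
    have := (wedgeCons (A := A) p (v 0) ⟨_, ih (Fin.tail v)⟩).2
    rwa [coe_wedgeCons] at this

theorem ctr_mem' (φ : M →ₗ[A] A) (p : ℕ) (x : ↥(⋀[A]^(p + 1) M)) :
    ctr φ (x : ExteriorAlgebra A M) ∈ ⋀[A]^p M := by
  have hx : x ∈ Submodule.span A (Set.range (ιMulti A (p + 1))) := by
    rw [ιMulti_span]; exact Submodule.mem_top
  induction hx using Submodule.span_induction with
  | mem y hy => obtain ⟨v, rfl⟩ := hy; exact ctr_mem φ p v
  | zero => rw [Submodule.coe_zero, map_zero]; exact zero_mem _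
  | add y z _ _ hy hz => rw [Submodule.coe_add, map_add]; exact add_mem hy hz
  | smul a y _ hy => rw [Submodule.coe_smul, map_smul]; exact Submodule.smul_mem _ _ hy

/-- Contraction with a linear form. -/
def contr (φ : M →ₗ[A] A) (p : ℕ) : ↥(⋀[A]^(p + 1) M) →ₗ[A] ↥(⋀[A]^p M) :=
  ((ctr φ).comp (⋀[A]^(p + 1) M).subtype).codRestrict _ (ctr_mem' φ p)

theorem coe_contr (φ : M →ₗ[A] A) (p : ℕ) (x : ↥(⋀[A]^(p + 1) M)) :
    (contr φ p x : ExteriorAlgebra A M) = ctr φ (x : ExteriorAlgebra A M) := rfl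

theorem contr_wedgeCons_zero (φ : M →ₗ[A] A) (m : M) (x : ↥(⋀[A]^0 M)) :
    contr φ 0 (wedgeCons (A := A) 0 m x) = φ m • x := by
  refine Subtype.ext ?_
  rw [coe_contr, coe_wedgeCons, ctr_ι_mul, Submodule.coe_smul]
  have h : ctr φ (x : ExteriorAlgebra A M) = 0 := by
    obtain ⟨c, rfl⟩ : ∃ c, c • ιMulti A 0 (Fin.elim0 : Fin 0 → M) = x := by
      refine ⟨zeroEquiv A M x, (zeroEquiv A M).injective ?_⟩
      rw [map_smul, zeroEquiv_ιMulti, smul_eq_mul, mul_one]
    rw [Submodule.coe_smul, map_smul, ιMulti_apply_coe, ExteriorAlgebra.ιMulti_zero_apply,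
      show ctr φ 1 = 0 from CliffordAlgebra.contractLeft_one _ φ, smul_zero]
  rw [h, mul_zero, sub_zero]

theorem contr_wedgeCons (φ : M →ₗ[A] A) (p : ℕ) (m : M) (x : ↥(⋀[A]^(p + 1) M)) :
    contr φ (p + 1) (wedgeCons (A := A) (p + 1) m x) = φ m • x - wedgeCons (A := A) p m (contr φ p x) := by
  refine Subtype.ext ?_
  simp only [coe_contr, coe_wedgeCons, ctr_ι_mul, Submodule.coe_smul, Submodule.coe_sub]

variable [IsScalarTower R A M] {δ : Derivation R A M}
  {d : ∀ p : ℕ, ↥(⋀[A]^p M) →ₗ[R] ↥(⋀[A]^(p + 1) M)}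

theorem d_gen_one (hd : _root_.DeRham.IsRule δ d) (p : ℕ) (b : Fin p → A) :
    d p (_root_.DeRham.gen δ p 1 b) = 0 := by
  rw [hd, Derivation.map_one_eq_zero]
  exact (ιMulti A (p + 1)).map_coord_zero 0 (by simp)

theorem d_wedgeCons (hδ : Submodule.span A (Set.range δ) = ⊤) (hd : _root_.DeRham.IsRule δ d)
    (p : ℕ) (a : A) (x : ↥(⋀[A]^p M)) :
    d (p + 1) (wedgeCons (A := A) p (δ a) x) = -wedgeCons (A := A) (p + 1) (δ a) (d p x) := by
  have h := leibniz hδ hd p a x
  rw [eq_sub_of_add_eq' h.symm, map_sub, ← LinearMap.comp_apply, comp_eq_zero_of_rule hδ hd p,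
    LinearMap.zero_apply, zero_sub, leibniz hδ hd (p + 1) a (d p x), ← LinearMap.comp_apply (d (p + 1)),
    comp_eq_zero_of_rule hδ hd p, LinearMap.zero_apply, smul_zero, zero_add]

theorem contr_gen_zero (φ : M →ₗ[A] A) (a : A) (b : Fin 0 → A) (x : M) :
    contr φ 0 (wedgeCons (A := A) 0 x (_root_.DeRham.gen δ 0 a b)) = φ x • _root_.DeRham.gen δ 0 a b :=
  contr_wedgeCons_zero φ x _

theorem d_eq_wedgeCons (hd : _root_.DeRham.IsRule δ d) (p : ℕ) (b₀ : A) (b : Fin p → A) :
    d p (_root_.DeRham.gen δ p b₀ b) = wedgeCons (A := A) p (δ b₀) (_root_.DeRham.gen δ p 1 b) := by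
  rw [hd, _root_.DeRham.gen, one_smul, wedgeCons_ιMulti]

/-- The homotopy formula in degree zero. -/
theorem contr_d_zero (hd : _root_.DeRham.IsRule δ d) (φ : M →ₗ[A] A) (b₀ : A) (b : Fin 0 → A) :
    contr φ 0 (d 0 (_root_.DeRham.gen δ 0 b₀ b)) = _root_.DeRham.gen δ 0 (φ (δ b₀)) b := by
  rw [d_eq_wedgeCons hd, contr_gen_zero, smul_gen, mul_one]

theorem gen_succ_eq (p : ℕ) (b : Fin (p + 1) → A) :
    _root_.DeRham.gen δ (p + 1) 1 b =
      wedgeCons (A := A) p (δ (b 0)) (_root_.DeRham.gen δ p 1 (Fin.tail b)) := by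
  rw [_root_.DeRham.gen, _root_.DeRham.gen, one_smul, one_smul, wedgeCons_ιMulti]
  congr 1
  funext i
  refine Fin.cases ?_ (fun j => ?_) i <;> simp [Fin.tail]

theorem d_contr_gen_one (hδ : Submodule.span A (Set.range δ) = ⊤) (hd : _root_.DeRham.IsRule δ d)
    (φ : M →ₗ[A] A) : ∀ (p : ℕ) (b : Fin (p + 1) → A) (n : Fin (p + 1) → A),
    (∀ i, δ (φ (δ (b i))) = n i • δ (b i)) →
      d p (contr φ p (_root_.DeRham.gen δ (p + 1) 1 b)) =
        (∑ i, n i) • _root_.DeRham.gen δ (p + 1) 1 b := by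
  intro p
  induction p with
  | zero =>
    intro b n hn
    rw [gen_succ_eq, contr_gen_zero, leibniz hδ hd, d_gen_one hd, smul_zero, hn 0,
      Fin.sum_univ_one]
    refine (zero_add _).trans ?_
    refine Subtype.ext ?_
    simp only [coe_wedgeCons, Submodule.coe_smul, map_smul, smul_mul_assoc]
  | succ p ih =>
    intro b n hn
    have hQ := ih (Fin.tail b) (Fin.tail n) fun i => hn i.succ
    rw [gen_succ_eq, contr_wedgeCons, map_sub, leibniz hδ hd, d_gen_one hd, smul_zero, zero_add,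
      d_wedgeCons hδ hd, hQ, hn 0, Fin.sum_univ_succ n, map_smul, sub_neg_eq_add, add_smul]
    congr 1
    refine Subtype.ext ?_
    simp only [coe_wedgeCons, Submodule.coe_smul, map_smul, smul_mul_assoc]

/-- The homotopy formula on eigenforms. -/
theorem lie_gen (hδ : Submodule.span A (Set.range δ) = ⊤) (hd : _root_.DeRham.IsRule δ d)
    (φ : M →ₗ[A] A) (p : ℕ) (b₀ : A) (b : Fin (p + 1) → A) (n : Fin (p + 1) → A)
    (hn : ∀ i, δ (φ (δ (b i))) = n i • δ (b i)) :
    d p (contr φ p (_root_.DeRham.gen δ (p + 1) b₀ b)) +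
        contr φ (p + 1) (d (p + 1) (_root_.DeRham.gen δ (p + 1) b₀ b)) =
      _root_.DeRham.gen δ (p + 1) (φ (δ b₀) + b₀ * ∑ i, n i) b := by
  have h1 : _root_.DeRham.gen δ (p + 1) b₀ b = b₀ • _root_.DeRham.gen δ (p + 1) 1 b := by
    rw [smul_gen, mul_one]
  rw [d_eq_wedgeCons hd, contr_wedgeCons, h1, map_smul (contr φ p), leibniz hδ hd,
    d_contr_gen_one hδ hd φ p b n hn, smul_gen, smul_gen, smul_gen, mul_one, mul_one,
    add_add_sub_cancel]
  simp only [_root_.DeRham.gen, ← add_smul]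
  congr 1
  ring

end Groth.L14.DeRham
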