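import Groth.Agent.L14.DeRham.Homotopy
import Mathlib.Algebra.Polynomial.AlgebraMap
import Mathlib.Algebra.Polynomial.Module.Basic

/-!
The Lie derivative on forms, and the homotopy argument for eigen decompositions.
-/

set_option autoImplicit false
set_option linter.style.haveILetI false

noncomputable section

universe v u

open exteriorPower

namespace Groth.L14.DeRham

variable {R : Type v} {A M : Type u} [CommRing R] [CommRing A] [Algebra R A]
  [AddCommGroup M] [Module A M] [Module R M] [IsScalarTower R A M]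
  {δ : Derivation R A M} {d : ∀ p : ℕ, ↥(⋀[A]^p M) →ₗ[R] ↥(⋀[A]^(p + 1) M)}

/-- The Lie derivative along a contraction. -/
def lie (d : ∀ p : ℕ, ↥(⋀[A]^p M) →ₗ[R] ↥(⋀[A]^(p + 1) M)) (φ : M →ₗ[A] A) :
    (p : ℕ) → Module.End R ↥(⋀[A]^p M)
  | 0 => (contr φ 0).restrictScalars R ∘ₗ d 0
  | q + 1 => d q ∘ₗ (contr φ q).restrictScalars R + (contr φ (q + 1)).restrictScalars R ∘ₗ d (q + 1)

theorem lie_zero_apply (φ : M →ₗ[A] A) (x : ↥(⋀[A]^0 M)) : lie d φ 0 x = contr φ 0 (d 0 x) := rfl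

theorem lie_succ_apply (φ : M →ₗ[A] A) (q : ℕ) (x : ↥(⋀[A]^(q + 1) M)) :
    lie d φ (q + 1) x = d q (contr φ q x) + contr φ (q + 1) (d (q + 1) x) := rfl

theorem d_lie (hd : _root_.DeRham.IsDiff δ d) (φ : M →ₗ[A] A) : ∀ (p : ℕ) (x : ↥(⋀[A]^p M)),
    d p (lie d φ p x) = lie d φ (p + 1) (d p x) := by
  have hdd : ∀ (q : ℕ) (z : ↥(⋀[A]^q M)), d (q + 1) (d q z) = 0 := fun q z =>
    LinearMap.congr_fun (hd.2 q) z
  intro p x
  cases p with
  | zero => rw [lie_zero_apply, lie_succ_apply, hdd, map_zero, add_zero]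
  | succ q => rw [lie_succ_apply, lie_succ_apply, map_add, hdd, hdd, map_zero, zero_add, add_zero]

theorem lie_gen_eigen (hδ : Submodule.span A (Set.range δ) = ⊤) (hd : _root_.DeRham.IsRule δ d)
    (φ : M →ₗ[A] A) : ∀ (p : ℕ) (b₀ : A) (b : Fin p → A) (n : Fin p → A),
    (∀ i, δ (φ (δ (b i))) = n i • δ (b i)) →
      lie d φ p (_root_.DeRham.gen δ p b₀ b) = _root_.DeRham.gen δ p (φ (δ b₀) + b₀ * ∑ i, n i) b := by
  intro p b₀ b n hn
  cases p with
  | zero =>
    rw [lie_zero_apply, contr_d_zero hd, Finset.univ_eq_empty, Finset.sum_empty, mul_zero, add_zero]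
  | succ q => exact lie_gen hδ hd φ q b₀ b n hn

/-- A contraction kills wedges of differentials it kills. -/
theorem contr_gen_eq_zero (φ : M →ₗ[A] A) : ∀ (q : ℕ) (b₀ : A) (b : Fin (q + 1) → A),
    (∀ i, φ (δ (b i)) = 0) → contr φ q (_root_.DeRham.gen δ (q + 1) b₀ b) = 0 := by
  suffices H : ∀ (q : ℕ) (b : Fin (q + 1) → A),
      (∀ i, φ (δ (b i)) = 0) → contr φ q (_root_.DeRham.gen δ (q + 1) 1 b) = 0 by
    intro q b₀ b hb
    rw [show _root_.DeRham.gen δ (q + 1) b₀ b = b₀ • _root_.DeRham.gen δ (q + 1) 1 b by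
      rw [smul_gen, mul_one], map_smul, H q b hb, smul_zero]
  intro q
  induction q with
  | zero => intro b hb; rw [gen_succ_eq, contr_wedgeCons_zero, hb, zero_smul]
  | succ q ih =>
    intro b hb
    rw [gen_succ_eq, contr_wedgeCons, hb, zero_smul, zero_sub, ih (Fin.tail b) (fun i => hb i.succ), map_zero, neg_zero]

/-- Polynomial annihilators with invertible constant term. -/
theorem lie_lie_eq_zero {V : Type*} [AddCommGroup V] [Module R V] (L : Module.End R V) (z : V)
    (h : ∃ q : Polynomial R, IsUnit (q.coeff 0) ∧ Polynomial.aeval L q (L z) = 0)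
    (hz : L (L z) = 0) : L z = 0 := by
  obtain ⟨q, hu, hq⟩ := h
  rw [← Polynomial.divX_mul_X_add q, map_add, map_mul, Polynomial.aeval_X, Polynomial.aeval_C,
    LinearMap.add_apply, Module.End.mul_apply, hz, map_zero, zero_add, Module.algebraMap_end_apply] at hq
  exact (hu.smul_eq_zero).mp hq

theorem annihilator_add {V : Type*} [AddCommGroup V] [Module R V] (L : Module.End R V) (y z : V)
    (hy : ∃ q : Polynomial R, IsUnit (q.coeff 0) ∧ Polynomial.aeval L q (L y) = 0)
    (hz : ∃ q : Polynomial R, IsUnit (q.coeff 0) ∧ Polynomial.aeval L q (L z) = 0) :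
    ∃ q : Polynomial R, IsUnit (q.coeff 0) ∧ Polynomial.aeval L q (L (y + z)) = 0 := by
  obtain ⟨q, hu, hq⟩ := hy
  obtain ⟨q', hu', hq'⟩ := hz
  refine ⟨q' * q, by rw [Polynomial.mul_coeff_zero]; exact hu'.mul hu, ?_⟩
  rw [map_add L, map_add]
  have h1 : Polynomial.aeval L (q' * q) (L y) = 0 := by rw [map_mul, Module.End.mul_apply, hq, map_zero]
  have h2 : Polynomial.aeval L (q' * q) (L z) = 0 := by
    rw [mul_comm, map_mul, Module.End.mul_apply, hq', map_zero]
  rw [h1, h2, add_zero]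

end Groth.L14.DeRham
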