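import Groth.Agent.L14.DeRham.Basic

/-!
Functoriality of exterior powers in semilinear maps, and the induced maps of de Rham complexes.
-/

set_option autoImplicit false
set_option linter.style.haveILetI false

noncomputable section

universe v u v' u'

open exteriorPower

namespace Groth.L14.DeRham

variable {A : Type u} {A' : Type u'} [CommRing A] [CommRing A'] {g : A →+* A'}
  {M : Type u} {M' : Type u'} [AddCommGroup M] [Module A M] [AddCommGroup M'] [Module A' M']

/-- A copy of a module, to carry the scalars restricted along a ring map. -/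
def Res (_g : A →+* A') (N : Type u') : Type u' := N

instance {N : Type u'} [AddCommGroup N] : AddCommGroup (Res g N) := inferInstanceAs (AddCommGroup N)

instance {N : Type u'} [AddCommGroup N] [Module A' N] : Module A (Res g N) := Module.compHom N g

theorem comp_update (φ : M →ₛₗ[g] M') {n : ℕ} [DecidableEq (Fin n)] (v : Fin n → M) (i : Fin n) (z : M) :
    (fun j => φ (Function.update v i z j)) = Function.update (fun j => φ (v j)) i (φ z) :=
  funext fun j => Function.apply_update (fun _ => φ) v i z j

theorem exists_extMap (φ : M →ₛₗ[g] M') (p : ℕ) :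
    ∃ H : ↥(⋀[A]^p M) →ₛₗ[g] ↥(⋀[A']^p M'),
      ∀ v : Fin p → M, H (ιMulti A p v) = ιMulti A' p fun i => φ (v i) := by
  let toRes : ↥(⋀[A']^p M') → Res g ↥(⋀[A']^p M') := fun z => z
  let Φ : M [⋀^Fin p]→ₗ[A] Res g ↥(⋀[A']^p M') :=
    { toFun := fun v => toRes (ιMulti A' p fun i => φ (v i))
      map_update_add' := by
        intro _ v i x y
        simp only [comp_update, map_add, AlternatingMap.map_update_add]
        rfl
      map_update_smul' := by
        intro _ v i a x
        simp only [comp_update, φ.map_smulₛₗ, AlternatingMap.map_update_smul]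
        rfl
      map_eq_zero_of_eq' := fun v i j hij hne =>
        (ιMulti A' p).map_eq_zero_of_eq (fun k => φ (v k)) (congrArg φ hij) hne }
  let Hl := alternatingMapLinearEquiv Φ
  let H : ↥(⋀[A]^p M) →ₛₗ[g] ↥(⋀[A']^p M') :=
    { toFun := fun z => Hl z
      map_add' := fun a b => map_add Hl a b
      map_smul' := fun a z => map_smul Hl a z }
  exact ⟨H, fun v => alternatingMapLinearEquiv_apply_ιMulti Φ v⟩

variable {R : Type v} {R' : Type v'} [CommRing R] [Algebra R A] [Module R M] [IsScalarTower R A M]
  [CommRing R'] [Algebra R' A'] [Module R' M'] [IsScalarTower R' A' M']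

theorem exists_isCxMap (δ : Derivation R A M) (δ' : Derivation R' A' M') (φ : M →ₛₗ[g] M')
    (hφ : ∀ a, φ (δ a) = δ' (g a)) :
    ∃ ψ : ∀ p : ℕ, ↥(⋀[A]^p M) →+ ↥(⋀[A']^p M'), _root_.DeRham.IsCxMap δ δ' g ψ := by
  choose H hH using fun p => exists_extMap φ p
  refine ⟨fun p => (H p).toAddMonoidHom, fun p b₀ b => ?_⟩
  show H p (b₀ • ιMulti A p fun i => δ (b i)) = g b₀ • ιMulti A' p fun i => δ' (g (b i))
  rw [LinearMap.map_smulₛₗ, hH]
  simp only [hφ]

end Groth.L14.DeRham
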