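import Groth.Agent.L14.DeRham.Homotopy
import Mathlib.LinearAlgebra.ExteriorPower.Basis
import Mathlib.RingTheory.MvPowerSeries.Derivative
import Mathlib.LinearAlgebra.StdBasis
import Mathlib.Data.Finsupp.Weight
import Mathlib.Algebra.CharZero.Defs

/-!
The formal Poincaré lemma.
-/

set_option autoImplicit false
set_option linter.style.haveILetI false

noncomputable section

universe u

open exteriorPower

namespace Groth.L14.DeRham

variable {k : Type u} [Field k] [CharZero k] {σ : Type u} [Fintype σ]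

local notation "P" => MvPowerSeries σ k

/-- Contraction with the Euler field. -/
def euler : (σ → P) →ₗ[P] P :=
  ∑ i, (MvPowerSeries.X i : P) • LinearMap.proj i

omit [CharZero k] in
theorem euler_apply (v : σ → P) : euler v = ∑ i, MvPowerSeries.X i * v i := by
  simp [euler]

omit [CharZero k] in
theorem coeff_X_mul_pderiv (i : σ) (f : P) (m : σ →₀ ℕ) :
    MvPowerSeries.coeff m (MvPowerSeries.X i * MvPowerSeries.pderiv k i f) =
      (m i : k) * MvPowerSeries.coeff m f := by
  classical
  rw [MvPowerSeries.X_def, MvPowerSeries.coeff_monomial_mul, one_mul]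
  split_ifs with h
  · rw [MvPowerSeries.coeff_pderiv, tsub_add_cancel_of_le h, mul_comm]
    have : 1 ≤ m i := by simpa using h i
    rw [Finsupp.tsub_apply, Finsupp.single_eq_same, Nat.cast_sub this, Nat.cast_one, sub_add_cancel]
  · have : m i = 0 := by
      by_contra h0
      exact h (Finsupp.single_le_iff.mpr (Nat.one_le_iff_ne_zero.mpr h0))
    rw [this, Nat.cast_zero, zero_mul]

omit [CharZero k] in
theorem coeff_euler (δ : Derivation k P (σ → P))
    (hδ : ∀ (f : P) (i : σ), δ f i = MvPowerSeries.pderiv k i f) (f : P) (m : σ →₀ ℕ) :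
    MvPowerSeries.coeff m (euler (δ f)) = (∑ i, (m i : k)) * MvPowerSeries.coeff m f := by
  rw [euler_apply, map_sum, Finset.sum_mul]
  exact Finset.sum_congr rfl fun i _ => by rw [hδ, coeff_X_mul_pderiv]

/-- Dividing the coefficients by the total weight. -/
def divWeight (c : ℕ) (f : P) : P := fun m =>
  MvPowerSeries.coeff m f / ((∑ i, (m i : k)) + c)

theorem euler_divWeight (δ : Derivation k P (σ → P))
    (hδ : ∀ (f : P) (i : σ), δ f i = MvPowerSeries.pderiv k i f) (c : ℕ) (hc : 0 < c) (f : P) :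
    euler (δ (divWeight c f)) + divWeight c f * (c : P) = f := by
  ext m
  have hne : (∑ i, (m i : k)) + c ≠ 0 := by
    have : ((∑ i, m i + c : ℕ) : k) ≠ 0 := Nat.cast_ne_zero.mpr (by omega)
    simpa using this
  rw [map_add, coeff_euler δ hδ, mul_comm _ (c : P), ← nsmul_eq_mul, map_nsmul, nsmul_eq_mul,
    show MvPowerSeries.coeff m (divWeight c f) = MvPowerSeries.coeff m f / ((∑ i, (m i : k)) + c) from rfl,
    ← add_mul, mul_div_cancel₀ _ hne]

theorem eq_zero_of_euler (δ : Derivation k P (σ → P))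
    (hδ : ∀ (f : P) (i : σ), δ f i = MvPowerSeries.pderiv k i f) (c : ℕ) (hc : 0 < c) (f : P)
    (h : euler (δ f) + f * (c : P) = 0) : f = 0 := by
  ext m
  have hne : (∑ i, (m i : k)) + c ≠ 0 := by
    have : ((∑ i, m i + c : ℕ) : k) ≠ 0 := Nat.cast_ne_zero.mpr (by omega)
    simpa using this
  have h1 := congrArg (MvPowerSeries.coeff m) h
  rw [map_add, coeff_euler δ hδ, mul_comm f, ← nsmul_eq_mul, map_nsmul, nsmul_eq_mul, ← add_mul,
    map_zero, mul_eq_zero] at h1
  simpa using h1.resolve_left hne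

theorem poincare (δ : Derivation k P (σ → P))
    (hδ : ∀ (f : P) (i : σ), δ f i = MvPowerSeries.pderiv k i f)
    (hgen : Submodule.span P (Set.range δ) = ⊤)
    (d : ∀ p : ℕ, ↥(⋀[P]^p (σ → P)) →ₗ[k] ↥(⋀[P]^(p + 1) (σ → P)))
    (hd : _root_.DeRham.IsDiff δ d) (p : ℕ) :
    _root_.DeRham.cocycles d (p + 1) ≤ _root_.DeRham.coboundaries d (p + 1) := by
  classical
  letI : LinearOrder σ := linearOrderOfSTO (WellOrderingRel (α := σ))
  have hX : ∀ i, δ (MvPowerSeries.X i) = Pi.basisFun P σ i := fun i => funext fun j => by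
    rw [hδ, Pi.basisFun_apply, MvPowerSeries.pderiv_X]
    by_cases h : i = j
    · subst h; simp
    · simp [h, Ne.symm h]
  have heig : ∀ i, δ (euler (δ (MvPowerSeries.X i))) = (1 : P) • δ (MvPowerSeries.X i) := by
    intro i
    rw [one_smul]
    congr 1
    rw [euler_apply]
    simp [hX, Pi.single_apply]
  have hspan : Submodule.span P (δ '' Set.range (MvPowerSeries.X : σ → P)) = ⊤ := by
    rw [← Set.range_comp, show ⇑δ ∘ MvPowerSeries.X = ⇑(Pi.basisFun P σ) from funext hX]
    exact (Pi.basisFun P σ).span_eq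
  have hlie : ∀ (q : ℕ) (f : P) (j : Fin (q + 1) → σ),
      d q (contr euler q (_root_.DeRham.gen δ (q + 1) f fun i => MvPowerSeries.X (j i))) +
          contr euler (q + 1) (d (q + 1) (_root_.DeRham.gen δ (q + 1) f fun i => MvPowerSeries.X (j i))) =
        _root_.DeRham.gen δ (q + 1) (euler (δ f) + f * (q + 1 : ℕ)) fun i => MvPowerSeries.X (j i) := by
    intro q f j
    rw [lie_gen hgen hd.1 euler q f _ (fun _ => 1) fun i => heig (j i)]
    simp
  let L : ∀ q, ↥(⋀[P]^(q + 1) (σ → P)) → ↥(⋀[P]^(q + 1) (σ → P)) := fun q x =>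
    d q (contr euler q x) + contr euler (q + 1) (d (q + 1) x)
  have hLadd : ∀ q x y, L q (x + y) = L q x + L q y := fun q x y => by
    simp only [L, map_add]; abel
  have hsurj : ∀ q x, ∃ y, L q y = x := by
    intro q x
    induction x using gen_induction' hspan with
    | hgen f b hb =>
      choose j hj using hb
      obtain rfl : (fun i => MvPowerSeries.X (j i)) = b := funext hj
      refine ⟨_root_.DeRham.gen δ (q + 1) (divWeight (q + 1) f) fun i => MvPowerSeries.X (j i), ?_⟩
      show _ + _ = _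
      rw [hlie, euler_divWeight δ hδ _ (Nat.succ_pos q)]
    | hzero => exact ⟨0, by simp [L]⟩
    | hadd x y hx hy =>
      obtain ⟨a, rfl⟩ := hx
      obtain ⟨b, rfl⟩ := hy
      exact ⟨a + b, hLadd q a b⟩
  have hinj : ∀ q x, L q x = 0 → x = 0 := by
    intro q x hx
    let B := (Pi.basisFun P σ).exteriorPower (q + 1)
    let T : ↥(⋀[P]^(q + 1) (σ → P)) →+ ↥(⋀[P]^(q + 1) (σ → P)) := AddMonoidHom.mk' (L q) (hLadd q)
    have hgen' : ∀ (f : P) (s : Set.powersetCard σ (q + 1)),
        T (f • B s) = (euler (δ f) + f * (q + 1 : ℕ)) • B s := by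
      intro f s
      have he : ∀ g : P, g • B s = _root_.DeRham.gen δ (q + 1) g
          fun i => MvPowerSeries.X (Set.powersetCard.ofFinEmbEquiv.symm s i) := by
        intro g
        rw [basis_apply, _root_.DeRham.gen]
        congr 1
        refine Subtype.ext ?_
        simp only [ιMulti_family_apply_coe, ιMulti_apply_coe, ExteriorAlgebra.ιMulti_family, hX]
        rfl
      rw [he, he]
      exact hlie q f _
    have h0 : ∀ s, euler (δ (B.repr x s)) + B.repr x s * (q + 1 : ℕ) = 0 := by
      have hsum : T x = ∑ s, (euler (δ (B.repr x s)) + B.repr x s * (q + 1 : ℕ)) • B s := by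
        conv_lhs => rw [← B.sum_repr x]
        rw [map_sum]
        exact Finset.sum_congr rfl fun s _ => hgen' _ s
      have hT : T x = 0 := hx
      rw [hsum] at hT
      exact Fintype.linearIndependent_iff.mp B.linearIndependent _ hT
    exact B.repr.map_eq_zero_iff.mp (Finsupp.ext fun s => eq_zero_of_euler δ hδ _ (Nat.succ_pos q) _ (h0 s))
  intro x hx
  rw [_root_.DeRham.cocycles, LinearMap.mem_ker] at hx
  obtain ⟨y, hy⟩ := hsurj p x
  have hdd : ∀ q (z : ↥(⋀[P]^q (σ → P))), d (q + 1) (d q z) = 0 := fun q z =>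
    LinearMap.congr_fun (hd.2 q) z
  have hdy : d (p + 1) y = 0 := by
    apply hinj (p + 1)
    show d (p + 1) (contr euler (p + 1) (d (p + 1) y)) + contr euler (p + 2) (d (p + 2) (d (p + 1) y)) = 0
    rw [hdd, map_zero, add_zero]
    have h1 : d (p + 1) (L p y) = 0 := by rw [hy, hx]
    simp only [L, map_add, hdd, zero_add] at h1
    exact h1
  refine ⟨contr euler p y, ?_⟩
  rw [← hy]
  show _ = _ + _
  rw [hdy, map_zero, add_zero]

end Groth.L14.DeRham
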