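import Groth.Agent.L14.DeRham.Lie
import Groth.Agent.L14.DeRham.Map
import Mathlib.Algebra.Polynomial.Derivation

/-!
Homotopy invariance of algebraic de Rham cohomology in characteristic zero.
-/

set_option autoImplicit false
set_option linter.style.haveILetI false

noncomputable section

universe u

open exteriorPower Polynomial

namespace Groth.L14.DeRham

section Poly

variable (R A : Type u) [CommRing R] [CommRing A] [Algebra R A]

/-- The Euler derivation of a polynomial ring. -/
def eulerDer : Derivation R A[X] A[X] := (X : A[X]) • (derivative' (R := A)).restrictScalars R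

/-- Contraction with the Euler derivation. -/
def eulerForm : Ω[A[X]⁄R] →ₗ[A[X]] A[X] := (eulerDer R A).liftKaehlerDifferential

theorem eulerForm_D (f : A[X]) :
    eulerForm R A (KaehlerDifferential.D R A[X] f) = X * derivative f := by
  rw [eulerForm, Derivation.liftKaehlerDifferential_comp_D]
  rfl

theorem span_C_X : Submodule.span A[X]
    (KaehlerDifferential.D R A[X] '' (Set.range (C : A → A[X]) ∪ {X})) = ⊤ := by
  rw [eq_top_iff, ← KaehlerDifferential.span_range_derivation R A[X], Submodule.span_le]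
  rintro _ ⟨f, rfl⟩
  induction f using Polynomial.induction_on' with
  | add p q hp hq => rw [map_add]; exact add_mem hp hq
  | monomial n a =>
    rw [← C_mul_X_pow_eq_monomial, Derivation.leibniz, Derivation.leibniz_pow]
    refine add_mem (Submodule.smul_mem _ _ (nsmul_mem (Submodule.smul_mem _ _ ?_) _)) (Submodule.smul_mem _ _ ?_)
    · exact Submodule.subset_span ⟨X, Or.inr rfl, rfl⟩
    · exact Submodule.subset_span ⟨C a, Or.inl ⟨a, rfl⟩, rfl⟩

end Poly

variable {R A : Type u} [CommRing R] [CommRing A] [Algebra R A]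
  {d : ∀ p : ℕ, ↥(⋀[A]^p (Ω[A⁄R])) →ₗ[R] ↥(⋀[A]^(p + 1) (Ω[A⁄R]))}
  {d' : ∀ p : ℕ, ↥(⋀[A[X]]^p (Ω[A[X]⁄R])) →ₗ[R] ↥(⋀[A[X]]^(p + 1) (Ω[A[X]⁄R]))}
  {ψ : ∀ p : ℕ, ↥(⋀[A]^p (Ω[A⁄R])) →+ ↥(⋀[A[X]]^p (Ω[A[X]⁄R]))}

theorem contr_psi (hψ : _root_.DeRham.IsCxMap (KaehlerDifferential.D R A) (KaehlerDifferential.D R A[X])
      (algebraMap A A[X]) ψ) (q : ℕ) (x : ↥(⋀[A]^(q + 1) (Ω[A⁄R]))) :
    contr (eulerForm R A) q (ψ (q + 1) x) = 0 := by
  induction x using gen_induction (KaehlerDifferential.span_range_derivation R A) with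
  | hgen b₀ b =>
    rw [hψ]
    exact contr_gen_eq_zero _ q _ _ fun i => by
      rw [eulerForm_D, Polynomial.algebraMap_eq, derivative_C, mul_zero]
  | hzero => simp
  | hadd y z hy hz => rw [map_add, map_add, hy, hz, add_zero]

theorem lie_psi (hψ : _root_.DeRham.IsCxMap (KaehlerDifferential.D R A) (KaehlerDifferential.D R A[X])
      (algebraMap A A[X]) ψ)
    (hcomm : ∀ (p : ℕ) (x : ↥(⋀[A]^p (Ω[A⁄R]))), ψ (p + 1) (d p x) = d' p (ψ p x))
    (p : ℕ) (x : ↥(⋀[A]^p (Ω[A⁄R]))) : lie d' (eulerForm R A) p (ψ p x) = 0 := by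
  cases p with
  | zero => rw [lie_zero_apply, ← hcomm, contr_psi hψ]
  | succ q => rw [lie_succ_apply, ← hcomm, contr_psi hψ, contr_psi hψ, map_zero, zero_add]

theorem lie_monomial_gen [Algebra ℚ R] (hd' : _root_.DeRham.IsRule (KaehlerDifferential.D R A[X]) d')
    (hψ : _root_.DeRham.IsCxMap (KaehlerDifferential.D R A) (KaehlerDifferential.D R A[X])
      (algebraMap A A[X]) ψ)
    (p m : ℕ) (a : A) (b : Fin p → A[X]) (hb : ∀ i, b i ∈ Set.range (C : A → A[X]) ∪ {X}) :
    (∃ x, _root_.DeRham.gen (KaehlerDifferential.D R A[X]) p (monomial m a) b = ψ p x) ∨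
      ∃ (w : ℕ), 0 < w ∧
        lie d' (eulerForm R A) p (_root_.DeRham.gen (KaehlerDifferential.D R A[X]) p (monomial m a) b) =
          (w : R) • _root_.DeRham.gen (KaehlerDifferential.D R A[X]) p (monomial m a) b := by
  classical
  have hn : ∀ i, ∃ e : ℕ, KaehlerDifferential.D R A[X] (eulerForm R A (KaehlerDifferential.D R A[X] (b i))) =
      (e : A[X]) • KaehlerDifferential.D R A[X] (b i) ∧ (e = 0 → b i ∈ Set.range (C : A → A[X])) := by
    intro i
    rcases hb i with ⟨c, hc⟩ | hX
    · refine ⟨0, ?_, fun _ => ⟨c, hc⟩⟩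
      rw [eulerForm_D, ← hc, derivative_C, mul_zero, map_zero, Nat.cast_zero, zero_smul]
    · refine ⟨1, ?_, fun h => absurd h one_ne_zero⟩
      rw [eulerForm_D, Set.mem_singleton_iff.mp hX, derivative_X, mul_one, Nat.cast_one, one_smul]
  choose e he he0 using hn
  by_cases hw : m + ∑ i, e i = 0
  · left
    obtain ⟨hm, hs⟩ : m = 0 ∧ ∀ i, e i = 0 := by
      refine ⟨by omega, fun i => ?_⟩
      have := Finset.single_le_sum (f := e) (fun j _ => Nat.zero_le _) (Finset.mem_univ i)
      omega
    subst hm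
    choose c hc using fun i => he0 i (hs i)
    refine ⟨_root_.DeRham.gen (KaehlerDifferential.D R A) p a c, ?_⟩
    rw [hψ, monomial_zero_left]
    congr 1
    funext i
    exact (hc i).symm
  · right
    refine ⟨m + ∑ i, e i, Nat.pos_of_ne_zero hw, ?_⟩
    rw [lie_gen_eigen (KaehlerDifferential.span_range_derivation R A[X]) hd' _ p _ _ _ he,
      Nat.cast_smul_eq_nsmul, eulerForm_D]
    have h1 : X * derivative (monomial m a) = (m : A[X]) * monomial m a := by
      cases m with
      | zero => simp [monomial_zero_left]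
      | succ l =>
        rw [derivative_monomial, Nat.add_sub_cancel, X_mul_monomial, ← nsmul_eq_mul,
          smul_monomial, nsmul_eq_mul, mul_comm a]
    rw [h1, ← Nat.cast_sum, mul_comm (monomial m a), ← add_mul, ← Nat.cast_add, ← smul_gen,
      Nat.cast_smul_eq_nsmul]

theorem isUnit_natCast [Algebra ℚ R] (w : ℕ) (hw : 0 < w) : IsUnit (w : R) := by
  have : IsUnit (algebraMap ℚ R (w : ℚ)) :=
    (IsUnit.mk0 _ (Nat.cast_ne_zero.mpr hw.ne')).map _
  rwa [map_natCast] at this

theorem poly_induction {p : ℕ} {motive : ↥(⋀[A[X]]^p (Ω[A[X]⁄R])) → Prop}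
    (hgen : ∀ m a (b : Fin p → A[X]), (∀ i, b i ∈ Set.range (C : A → A[X]) ∪ {X}) →
      motive (_root_.DeRham.gen (KaehlerDifferential.D R A[X]) p (monomial m a) b))
    (hzero : motive 0) (hadd : ∀ x y, motive x → motive y → motive (x + y))
    (z : ↥(⋀[A[X]]^p (Ω[A[X]⁄R]))) : motive z := by
  induction z using gen_induction' (span_C_X R A) with
  | hgen b₀ b hb =>
    induction b₀ using Polynomial.induction_on' with
    | add f g hf hg =>
      have : _root_.DeRham.gen (KaehlerDifferential.D R A[X]) p (f + g) b =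
          _root_.DeRham.gen (KaehlerDifferential.D R A[X]) p f b +
          _root_.DeRham.gen (KaehlerDifferential.D R A[X]) p g b := by
        simp only [_root_.DeRham.gen, add_smul]
      rw [this]; exact hadd _ _ hf hg
    | monomial m a => exact hgen m a b hb
  | hzero => exact hzero
  | hadd x y hx hy => exact hadd _ _ hx hy

theorem exists_retraction :
    ∃ r : ∀ p : ℕ, ↥(⋀[A[X]]^p (Ω[A[X]⁄R])) →+ ↥(⋀[A]^p (Ω[A⁄R])),
      _root_.DeRham.IsCxMap (KaehlerDifferential.D R A[X]) (KaehlerDifferential.D R A)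
        (Polynomial.evalRingHom (0 : A)) r := by
  letI : Algebra A[X] A := (Polynomial.evalRingHom (0 : A)).toAlgebra
  haveI : IsScalarTower R A[X] A := IsScalarTower.of_algebraMap_eq fun x => by
    rw [RingHom.algebraMap_toAlgebra, Polynomial.algebraMap_apply, coe_evalRingHom, eval_C]
  haveI : SMulCommClass R A[X] A := ⟨fun r f a => by
    simp only [Algebra.smul_def]; ring⟩
  let φ : Ω[A[X]⁄R] →ₛₗ[Polynomial.evalRingHom (0 : A)] Ω[A⁄R] :=
    { toFun := KaehlerDifferential.map R R A[X] A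
      map_add' := map_add _
      map_smul' := fun a x => by
        rw [map_smul, ← IsScalarTower.algebraMap_smul A a, RingHom.algebraMap_toAlgebra] }
  exact exists_isCxMap _ _ φ fun a => KaehlerDifferential.map_D R R A[X] A a

theorem homotopy_invariance [Algebra ℚ R] (hd : _root_.DeRham.IsDiff (KaehlerDifferential.D R A) d)
    (hd' : _root_.DeRham.IsDiff (KaehlerDifferential.D R A[X]) d')
    (hψ : _root_.DeRham.IsCxMap (KaehlerDifferential.D R A) (KaehlerDifferential.D R A[X])
      (algebraMap A A[X]) ψ)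
    (hcomm : ∀ (p : ℕ) (x : ↥(⋀[A]^p (Ω[A⁄R]))), ψ (p + 1) (d p x) = d' p (ψ p x)) (i : ℕ) :
    (∀ y ∈ _root_.DeRham.cocycles d' i, ∃ x ∈ _root_.DeRham.cocycles d i,
        y - ψ i x ∈ _root_.DeRham.coboundaries d' i) ∧
      (∀ x ∈ _root_.DeRham.cocycles d i, ψ i x ∈ _root_.DeRham.coboundaries d' i →
        x ∈ _root_.DeRham.coboundaries d i) := by
  obtain ⟨r, hr⟩ := exists_retraction (R := R) (A := A)
  have hrψ : ∀ p x, r p (ψ p x) = x := by
    intro p x
    induction x using gen_induction (KaehlerDifferential.span_range_derivation R A) with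
    | hgen b₀ b => rw [hψ, hr]; simp
    | hzero => simp
    | hadd y z hy hz => rw [map_add, map_add, hy, hz]
  have hrd := cxMap_comm (KaehlerDifferential.span_range_derivation R A[X]) hr hd'.1 hd.1
  refine ⟨fun y hy => ?_, fun x _ hx => ?_⟩
  swap
  · cases i with
    | zero =>
      have hx' : ψ 0 x = 0 := hx
      have : x = 0 := by rw [← hrψ 0 x, hx', map_zero]
      rw [this]; exact zero_mem _
    | succ q =>
      obtain ⟨η, hη⟩ := hx
      exact ⟨r q η, by rw [← hrd, hη, hrψ]⟩
  have hdec : ∀ p z, ∃ x η, z = ψ p x + lie d' (eulerForm R A) p η := by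
    intro p z
    induction z using poly_induction with
    | hgen m a b hb =>
      rcases lie_monomial_gen hd'.1 hψ p m a b hb with ⟨x, hx⟩ | ⟨w, hw, hL⟩
      · exact ⟨x, 0, by rw [map_zero, add_zero, hx]⟩
      · obtain ⟨u, hu⟩ := isUnit_natCast (R := R) w hw
        refine ⟨0, (↑u⁻¹ : R) • _root_.DeRham.gen (KaehlerDifferential.D R A[X]) p (monomial m a) b, ?_⟩
        rw [map_zero, zero_add, map_smul, hL, ← hu, smul_smul, Units.inv_mul, one_smul]
    | hzero => exact ⟨0, 0, by simp⟩
    | hadd y z hy hz =>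
      obtain ⟨x, η, rfl⟩ := hy
      obtain ⟨x', η', rfl⟩ := hz
      exact ⟨x + x', η + η', by rw [map_add, map_add]; abel⟩
  have hann : ∀ p z, ∃ q : Polynomial R, IsUnit (q.coeff 0) ∧
      aeval (lie d' (eulerForm R A) p) q (lie d' (eulerForm R A) p z) = 0 := by
    intro p z
    induction z using poly_induction with
    | hgen m a b hb =>
      rcases lie_monomial_gen hd'.1 hψ p m a b hb with ⟨x, hx⟩ | ⟨w, hw, hL⟩
      · exact ⟨1, by simp, by rw [hx, lie_psi hψ hcomm, map_zero]⟩
      · refine ⟨X - C (w : R), ?_, ?_⟩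
        · rw [coeff_sub, coeff_X_zero, coeff_C_zero, zero_sub]
          exact (isUnit_natCast (R := R) w hw).neg
        · rw [map_sub, aeval_X, aeval_C, LinearMap.sub_apply, Module.algebraMap_end_apply, hL, map_smul,
            hL, sub_self]
    | hzero => exact ⟨1, by simp, by simp⟩
    | hadd y z hy hz => exact annihilator_add _ y z hy hz
  have hkey : ∀ p z, lie d' (eulerForm R A) p (lie d' (eulerForm R A) p z) = 0 →
      lie d' (eulerForm R A) p z = 0 :=
    fun p z h => lie_lie_eq_zero _ z (hann p z) h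
  obtain ⟨x, η, rfl⟩ := hdec i y
  rw [_root_.DeRham.cocycles, LinearMap.mem_ker, map_add, ← hcomm, d_lie hd'] at hy
  have h1 : lie d' (eulerForm R A) (i + 1) (d' i η) = 0 := by
    apply hkey
    have h := congrArg (lie d' (eulerForm R A) (i + 1)) hy
    rwa [map_add, lie_psi hψ hcomm, zero_add, map_zero] at h
  rw [h1, add_zero] at hy
  have h2 : contr (eulerForm R A) i (d' i η) = 0 := by
    obtain ⟨x', η', hx'⟩ := hdec (i + 1) (d' i η)
    have h3 : lie d' (eulerForm R A) (i + 1) η' = 0 := by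
      apply hkey
      rwa [hx', map_add, lie_psi hψ hcomm, zero_add] at h1
    rw [hx', h3, add_zero, contr_psi hψ]
  refine ⟨x, ?_, ?_⟩
  · rw [_root_.DeRham.cocycles, LinearMap.mem_ker, ← hrψ (i + 1) (d i x), hy, map_zero]
  · rw [add_sub_cancel_left]
    cases i with
    | zero => rw [lie_zero_apply, h2]; exact zero_mem _
    | succ q =>
      rw [lie_succ_apply, h2, add_zero]
      exact ⟨_, rfl⟩

end Groth.L14.DeRham
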