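import Groth.Agent.L14.DeRham.Basic

/-!
The de Rham differential on the exterior powers of a quotient of a receptacle.
-/

set_option autoImplicit false
set_option linter.style.haveILetI false

noncomputable section

universe v u

open exteriorPower

namespace Groth.L14.DeRham

section Kernel

variable {A : Type u} [CommRing A] {M M' : Type u} [AddCommGroup M] [Module A M] [AddCommGroup M']
  [Module A M'] (π : M →ₗ[A] M')

/-- The wedges with a first factor in the kernel. -/
def wedgeKer (q : ℕ) : Submodule A ↥(⋀[A]^(q + 1) M) :=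
  Submodule.span A {x | ∃ ω ∈ LinearMap.ker π, ∃ v : Fin q → M, x = ιMulti A (q + 1) (Fin.cons ω v)}

theorem update_mem_wedgeKer {q : ℕ} (v : Fin (q + 1) → M) (i : Fin (q + 1)) {ω : M}
    (hω : ω ∈ LinearMap.ker π) :
    ιMulti A (q + 1) (Function.update v i ω) ∈ wedgeKer π q := by
  let w : Fin (q + 1) → M := Function.update v i ω ∘ Equiv.swap 0 i
  have hw : w = Fin.cons ω (Fin.tail w) := by
    conv_lhs => rw [← Fin.cons_self_tail w]
    congr 1
    simp [w]
  have hmem : ιMulti A (q + 1) w ∈ wedgeKer π q := Submodule.subset_span ⟨ω, hω, Fin.tail w, congrArg _ hw⟩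
  by_cases hi : (0 : Fin (q + 1)) = i
  · subst hi
    simpa [w] using hmem
  · have h := (ιMulti A (q + 1)).map_swap (Function.update v i ω) hi
    rw [show Function.update v i ω ∘ Equiv.swap 0 i = w from rfl] at h
    rw [h] at hmem
    simpa using neg_mem hmem

theorem ιMulti_sub_mem_wedgeKer {q : ℕ} (v v' : Fin (q + 1) → M) (h : ∀ i, π (v i) = π (v' i)) :
    ιMulti A (q + 1) v - ιMulti A (q + 1) v' ∈ wedgeKer π q := by
  classical
  suffices H : ∀ s : Finset (Fin (q + 1)),
      ιMulti A (q + 1) (s.piecewise v v') - ιMulti A (q + 1) v' ∈ wedgeKer π q by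
    simpa using H Finset.univ
  intro s
  induction s using Finset.induction_on with
  | empty => simp
  | @insert i s hi ih =>
    have e : (insert i s).piecewise v v' =
        Function.update (s.piecewise v v') i ((v i - v' i) + v' i) := by
      rw [sub_add_cancel, Finset.piecewise_insert]
    rw [e, AlternatingMap.map_update_add, show Function.update (s.piecewise v v') i (v' i) = s.piecewise v v' from
      Function.update_eq_self_iff.mpr (by simp [Finset.piecewise_eq_of_notMem _ _ _ hi]), add_sub_assoc]
    exact add_mem (update_mem_wedgeKer π _ i (by simp [LinearMap.mem_ker, h i])) ih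

theorem ker_map_le_wedgeKer (hπ : Function.Surjective π) (q : ℕ) :
    LinearMap.ker (exteriorPower.map (q + 1) π) ≤ wedgeKer π q := by
  classical
  obtain ⟨s, hs⟩ := hπ.hasRightInverse
  let N := wedgeKer π q
  have key : ∀ v v' : Fin (q + 1) → M, (∀ i, π (v i) = π (v' i)) →
      N.mkQ (ιMulti A (q + 1) v) = N.mkQ (ιMulti A (q + 1) v') := fun v v' h => by
    rw [Submodule.mkQ_apply, Submodule.mkQ_apply, Submodule.Quotient.eq]
    exact ιMulti_sub_mem_wedgeKer π v v' h
  have hupd : ∀ (v : Fin (q + 1) → M') (i : Fin (q + 1)) (z : M') (w : M), π w = z →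
      N.mkQ (ιMulti A (q + 1) (s ∘ Function.update v i z)) =
        N.mkQ (ιMulti A (q + 1) (Function.update (s ∘ v) i w)) := fun v i z w hw => by
    refine key _ _ fun j => ?_
    by_cases hj : j = i
    · subst hj; simp [hs _, hw]
    · simp [Function.update_of_ne hj]
  let Φ : M' [⋀^Fin (q + 1)]→ₗ[A] (↥(⋀[A]^(q + 1) M) ⧸ N) :=
    { toFun := fun v => N.mkQ (ιMulti A (q + 1) (s ∘ v))
      map_update_add' := by
        intro inst v i x y
        obtain rfl : inst = instDecidableEqFin (q + 1) := Subsingleton.elim _ _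
        rw [hupd v i _ (s x + s y) (by simp [hs _]), hupd v i x (s x) (hs x), hupd v i y (s y) (hs y),
          AlternatingMap.map_update_add, map_add]
      map_update_smul' := by
        intro inst v i a x
        obtain rfl : inst = instDecidableEqFin (q + 1) := Subsingleton.elim _ _
        rw [hupd v i _ (a • s x) (by simp [hs _]), hupd v i x (s x) (hs x),
          AlternatingMap.map_update_smul, map_smul]
      map_eq_zero_of_eq' := fun v i j hij hne => by
        rw [(ιMulti A (q + 1)).map_eq_zero_of_eq (s ∘ v) (congrArg s hij) hne, map_zero] }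
  have hcomp : (alternatingMapLinearEquiv Φ) ∘ₗ exteriorPower.map (q + 1) π = N.mkQ := by
    apply linearMap_ext
    ext v
    simp only [LinearMap.compAlternatingMap_apply, LinearMap.comp_apply, map_apply_ιMulti,
      alternatingMapLinearEquiv_apply_ιMulti]
    exact key _ _ fun i => hs _
  intro x hx
  have := LinearMap.congr_fun hcomp x
  rw [LinearMap.comp_apply, LinearMap.mem_ker.mp hx, map_zero] at this
  exact (Submodule.Quotient.mk_eq_zero N).mp this.symm

theorem coe_map (p : ℕ) (x : ↥(⋀[A]^p M)) :
    (exteriorPower.map p π x : ExteriorAlgebra A M') = ExteriorAlgebra.map π (x : ExteriorAlgebra A M) := by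
  have : (⋀[A]^p M').subtype ∘ₗ exteriorPower.map p π =
      (ExteriorAlgebra.map π).toLinearMap ∘ₗ (⋀[A]^p M).subtype := by
    apply linearMap_ext
    ext v
    simp [ExteriorAlgebra.map_apply_ιMulti]
  exact LinearMap.congr_fun this x

theorem coe_cons (p : ℕ) (m : M) (v : Fin p → M) :
    (ιMulti A (p + 1) (Fin.cons m v) : ExteriorAlgebra A M) =
      ExteriorAlgebra.ι A m * (ιMulti A p v : ExteriorAlgebra A M) := by
  rw [ιMulti_apply_coe, ιMulti_apply_coe, ExteriorAlgebra.ιMulti_succ_apply]
  simp [Matrix.vecTail, Function.comp_def]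

theorem coe_oneEquiv_symm (m : M) :
    (((exteriorPower.oneEquiv A M).symm m : ↥(⋀[A]^1 M)) : ExteriorAlgebra A M) =
      ExteriorAlgebra.ι A m := by
  have h : (exteriorPower.oneEquiv A M).symm m = ιMulti A 1 (Fin.cons m Fin.elim0) :=
    (exteriorPower.oneEquiv A M).injective (by
      rw [LinearEquiv.apply_symm_apply, oneEquiv_ιMulti]; rfl)
  rw [h, coe_cons, ιMulti_apply_coe, ExteriorAlgebra.ιMulti_zero_apply, mul_one]

theorem coe_wedgeCons (p : ℕ) (m : M) (x : ↥(⋀[A]^p M)) :
    (wedgeCons (A := A) p m x : ExteriorAlgebra A M) =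
      ExteriorAlgebra.ι A m * (x : ExteriorAlgebra A M) := by
  have : (⋀[A]^(p + 1) M).subtype ∘ₗ wedgeCons (A := A) p m =
      (LinearMap.mulLeft A (ExteriorAlgebra.ι A m)) ∘ₗ (⋀[A]^p M).subtype := by
    apply linearMap_ext
    ext v
    simp only [LinearMap.compAlternatingMap_apply, LinearMap.comp_apply, Submodule.subtype_apply,
      wedgeCons_ιMulti, LinearMap.mulLeft_apply, coe_cons]
  exact LinearMap.congr_fun this x

end Kernel

variable {R : Type v} {A M M' : Type u} [CommRing R] [CommRing A] [Algebra R A]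
  [AddCommGroup M] [Module A M] [Module R M] [IsScalarTower R A M]
  [AddCommGroup M'] [Module A M'] [Module R M'] [IsScalarTower R A M']
  {δ : Derivation R A M} {dA : ∀ p : ℕ, ↥(⋀[A]^p M) →ₗ[R] ↥(⋀[A]^(p + 1) M)}

theorem coe_leibniz (hδ : Submodule.span A (Set.range δ) = ⊤) (hd : _root_.DeRham.IsRule δ dA)
    (p : ℕ) (a : A) (x : ↥(⋀[A]^p M)) :
    (dA p (a • x) : ExteriorAlgebra A M) =
      a • (dA p x : ExteriorAlgebra A M) + ExteriorAlgebra.ι A (δ a) * (x : ExteriorAlgebra A M) := by
  rw [leibniz hδ hd, Submodule.coe_add, Submodule.coe_smul, coe_wedgeCons]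

/-- The differential of a one-form wedged with exact one-forms. -/
theorem coe_d_cons (hδ : Submodule.span A (Set.range δ) = ⊤) (hd : _root_.DeRham.IsRule δ dA)
    (q : ℕ) (ω : M) (b : Fin q → A) :
    (dA (q + 1) (ιMulti A (q + 1) (Fin.cons ω fun i => δ (b i))) : ExteriorAlgebra A M) =
      (dA 1 ((exteriorPower.oneEquiv A M).symm ω) : ExteriorAlgebra A M) *
        (ιMulti A q (fun i => δ (b i)) : ExteriorAlgebra A M) := by
  let v : Fin q → M := fun i => δ (b i)
  have hsmul : ∀ (a : A) (x : M),
      ιMulti A (q + 1) (Fin.cons (a • x) v) = a • ιMulti A (q + 1) (Fin.cons x v) := fun a x => by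
    have h1 := (ιMulti A (q + 1) (M := M)).map_update_smul (Fin.cons 0 v) 0 a x
    simpa only [Fin.update_cons_zero] using h1
  have hadd : ∀ x y : M, ιMulti A (q + 1) (Fin.cons (x + y) v) =
      ιMulti A (q + 1) (Fin.cons x v) + ιMulti A (q + 1) (Fin.cons y v) := fun x y => by
    have h1 := (ιMulti A (q + 1) (M := M)).map_update_add (Fin.cons 0 v) 0 x y
    simpa only [Fin.update_cons_zero] using h1
  have hx : ω ∈ Submodule.span A (Set.range δ) := hδ ▸ Submodule.mem_top
  show (dA (q + 1) (ιMulti A (q + 1) (Fin.cons ω v)) : ExteriorAlgebra A M) = _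
  induction hx using Submodule.span_induction with
  | mem x hx =>
    obtain ⟨e, rfl⟩ := hx
    have h1 : (exteriorPower.oneEquiv A M).symm (δ e) = dA 0 (_root_.DeRham.gen δ 0 e Fin.elim0) :=
      (exteriorPower.oneEquiv A M).injective (by
        rw [LinearEquiv.apply_symm_apply, hd, oneEquiv_ιMulti]; rfl)
    have h2 : ιMulti A (q + 1) (Fin.cons (δ e) v) = dA q (_root_.DeRham.gen δ q e b) := (hd q e b).symm
    rw [h2, h1, ← LinearMap.comp_apply, comp_eq_zero_of_rule hδ hd q, ← LinearMap.comp_apply (dA (0 + 1)),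
      comp_eq_zero_of_rule hδ hd 0]
    simp
  | zero =>
    have h0 : ιMulti A (q + 1) (Fin.cons (0 : M) v) = 0 :=
      (ιMulti A (q + 1)).map_coord_zero 0 (by simp)
    simp [h0]
  | add x y _ _ hx hy => simp only [hadd, map_add, Submodule.coe_add, hx, hy, add_mul]
  | smul a x _ hx =>
    rw [hsmul, map_smul (exteriorPower.oneEquiv A M).symm, coe_leibniz hδ hd, coe_leibniz hδ hd, hx,
      coe_oneEquiv_symm, coe_cons, add_mul, smul_mul_assoc, mul_assoc]

theorem map_d_eq_zero (hδ : Submodule.span A (Set.range δ) = ⊤) (hd : _root_.DeRham.IsRule δ dA)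
    (π : M →ₗ[A] M')
    (hker : LinearMap.ker π ≤ Submodule.span A {ω : M | π ω = 0 ∧
      exteriorPower.map 2 π (dA 1 ((exteriorPower.oneEquiv A M).symm ω)) = 0})
    (hπ : Function.Surjective π) (q : ℕ) (x : ↥(⋀[A]^(q + 1) M))
    (hx : exteriorPower.map (q + 1) π x = 0) :
    exteriorPower.map (q + 2) π (dA (q + 1) x) = 0 := by
  have hx' := ker_map_le_wedgeKer π hπ q hx
  clear hx
  suffices H : ∀ c : A, exteriorPower.map (q + 2) π (dA (q + 1) (c • x)) = 0 by simpa using H 1
  induction hx' using Submodule.span_induction with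
  | zero => simp
  | add y z _ _ hy hz => intro c; rw [smul_add, map_add, map_add, hy c, hz c, add_zero]
  | smul a y _ hy => intro c; rw [smul_smul]; exact hy _
  | mem y hy =>
    obtain ⟨ω, hω, v, rfl⟩ := hy
    intro c
    have hω' := hker hω
    clear hω
    have hsmul : ∀ (a : A) (x : M),
        ιMulti A (q + 1) (Fin.cons (a • x) v) = a • ιMulti A (q + 1) (Fin.cons x v) := fun a x => by
      have h1 := (ιMulti A (q + 1) (M := M)).map_update_smul (Fin.cons 0 v) 0 a x
      simpa only [Fin.update_cons_zero] using h1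
    have hadd : ∀ x y : M, ιMulti A (q + 1) (Fin.cons (x + y) v) =
        ιMulti A (q + 1) (Fin.cons x v) + ιMulti A (q + 1) (Fin.cons y v) := fun x y => by
      have h1 := (ιMulti A (q + 1) (M := M)).map_update_add (Fin.cons 0 v) 0 x y
      simpa only [Fin.update_cons_zero] using h1
    induction hω' using Submodule.span_induction generalizing c with
    | zero =>
      have h0 : ιMulti A (q + 1) (Fin.cons (0 : M) v) = 0 :=
        (ιMulti A (q + 1)).map_coord_zero 0 (by simp)
      simp [h0]
    | add y z _ _ hy hz => rw [hadd, smul_add, map_add, map_add, hy c, hz c, add_zero]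
    | smul a y _ hy => rw [hsmul, smul_smul]; exact hy _
    | mem ω hω =>
      have hw : wedgeCons (A := A) q ω (ιMulti A q v) = ιMulti A (q + 1) (Fin.cons ω v) :=
        wedgeCons_ιMulti q ω v
      rw [← hw]
      revert c
      generalize ιMulti A q v = z
      induction z using gen_induction hδ with
      | hzero => intro c; simp
      | hadd y z hy hz => intro c; rw [map_add, smul_add, map_add, map_add, hy c, hz c, add_zero]
      | hgen b₀ b =>
        intro c
        rw [_root_.DeRham.gen, map_smul (wedgeCons (A := A) q ω), smul_smul, wedgeCons_ιMulti]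
        refine Subtype.ext ?_
        have h2 : ExteriorAlgebra.map π
            (dA 1 ((exteriorPower.oneEquiv A M).symm ω) : ExteriorAlgebra A M) = 0 := by
          rw [← coe_map, hω.2]; rfl
        generalize c * b₀ = e
        rw [coe_map, coe_leibniz hδ hd, coe_d_cons hδ hd, coe_cons]
        simp only [map_add, map_smul, map_mul (ExteriorAlgebra.map π), h2, ExteriorAlgebra.map_apply_ι, hω.1,
          map_zero, mul_zero, zero_mul, smul_zero, add_zero]
        rfl

theorem exists_isDiff_quot (hδ : Submodule.span A (Set.range δ) = ⊤) (hd : _root_.DeRham.IsDiff δ dA)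
    (π : M →ₗ[A] M') (hπ : Function.Surjective π)
    (hker : LinearMap.ker π ≤ Submodule.span A {ω : M | π ω = 0 ∧
      exteriorPower.map 2 π (dA 1 ((exteriorPower.oneEquiv A M).symm ω)) = 0}) :
    ∃ d : ∀ p : ℕ, ↥(⋀[A]^p M') →ₗ[R] ↥(⋀[A]^(p + 1) M'),
      _root_.DeRham.IsDiff (π.compDer δ) d ∧
        ∀ (p : ℕ) (x : ↥(⋀[A]^p M)), d p (exteriorPower.map p π x) = exteriorPower.map (p + 1) π (dA p x) := by
  let F : ∀ p : ℕ, ↥(⋀[A]^p M) →ₗ[R] ↥(⋀[A]^(p + 1) M') := fun p =>
    (exteriorPower.map (p + 1) π).restrictScalars R ∘ₗ dA p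
  have hF : ∀ p, LinearMap.ker ((exteriorPower.map p π).restrictScalars R) ≤ LinearMap.ker (F p) := by
    intro p x hx
    rw [LinearMap.mem_ker, LinearMap.restrictScalars_apply] at hx
    cases p with
    | zero =>
      have hx0 : x = 0 := by
        have h := congrArg (exteriorPower.zeroEquiv A M') hx
        rw [map_zero] at h
        have h2 := LinearMap.congr_fun (zeroEquiv_naturality (f := π)) x
        simp only [LinearMap.comp_apply, LinearEquiv.coe_coe] at h2
        apply (exteriorPower.zeroEquiv A M).injective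
        rw [map_zero, ← h]
        exact h2.symm
      simp [hx0]
    | succ q => exact map_d_eq_zero hδ hd.1 π hker hπ q x hx
  have hsurj : ∀ p, Function.Surjective ((exteriorPower.map p π).restrictScalars R) :=
    fun p => exteriorPower.map_surjective hπ
  let d : ∀ p : ℕ, ↥(⋀[A]^p M') →ₗ[R] ↥(⋀[A]^(p + 1) M') := fun p =>
    (Submodule.liftQ _ (F p) (hF p)) ∘ₗ
      (((exteriorPower.map p π).restrictScalars R).quotKerEquivOfSurjective (hsurj p)).symm.toLinearMap
  have hdF : ∀ p x, d p (exteriorPower.map p π x) = F p x := by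
    intro p x
    have : (((exteriorPower.map p π).restrictScalars R).quotKerEquivOfSurjective (hsurj p)).symm
        (exteriorPower.map p π x) = Submodule.Quotient.mk x := (LinearEquiv.symm_apply_eq _).mpr rfl
    show Submodule.liftQ _ (F p) (hF p) _ = _
    erw [this]
    rfl
  refine ⟨d, ⟨fun p b₀ b => ?_, fun p => ?_⟩, hdF⟩
  · have hgen : _root_.DeRham.gen (π.compDer δ) p b₀ b = exteriorPower.map p π (_root_.DeRham.gen δ p b₀ b) := by
      rw [_root_.DeRham.gen, _root_.DeRham.gen, map_smul, map_apply_ιMulti]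
      rfl
    rw [hgen, hdF]
    show exteriorPower.map (p + 1) π (dA p _) = _
    rw [hd.1, map_apply_ιMulti]
    congr 1
    funext i
    refine Fin.cases ?_ (fun j => ?_) i <;> rfl
  · refine LinearMap.ext fun y => ?_
    obtain ⟨x, rfl⟩ := hsurj p y
    show d (p + 1) (d p (exteriorPower.map p π x)) = 0
    rw [hdF]
    show d (p + 1) (exteriorPower.map (p + 1) π (dA p x)) = 0
    rw [hdF]
    show exteriorPower.map (p + 1 + 1) π (dA (p + 1) (dA p x)) = 0
    rw [← LinearMap.comp_apply (dA (p + 1)), hd.2 p, LinearMap.zero_apply, map_zero]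

end Groth.L14.DeRham
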